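import Groth.Agent.L27.AffineEfface.Effacement
import Groth.Agent.L27.H0Proper
import Groth.Agent.L27.StalkRpush.Nbhd
import Groth.Agent.L27.LimCoh.StageSys
import Groth.Agent.L27.LimCoh.Thm
import Groth.Agent.L27.ExtZero.Cont
import Groth.Agent.L05.Henselization.Colimit
import Mathlib.CategoryTheory.Limits.Preserves.Opposites

/-! # Cohomology of closed subschemes of affine etale schemes -/

universe u

open CategoryTheory CategoryTheory.Limits AlgebraicGeometry Opposite

set_option autoImplicit false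
set_option linter.style.haveILetI false
set_option linter.unusedSectionVars false
set_option backward.isDefEq.respectTransparency.types false

namespace Groth.L27.ModEfface

open Groth.L05.Henselization
open Groth.L27.StalkRpush (toBase map_toBase)

noncomputable section

/-- A sheaf is acyclic on etale qcqs schemes. -/
def EtAcyclic {X : Scheme.{u}} (G : EtCoh.Ab X) : Prop :=
  ∀ {U : Scheme.{u}} (t : U ⟶ X) [Etale t] [CompactSpace U] [QuasiSeparatedSpace U] (q : ℕ),
    Subsingleton (EtCoh.H U ((EtCoh.pull t).obj G) (q + 1))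

/-- A sheaf is acyclic on affine etale schemes. -/
def EtAcyclicAff {X : Scheme.{u}} (G : EtCoh.Ab X) : Prop :=
  ∀ {U : Scheme.{u}} (t : U ⟶ X) [Etale t] [IsAffine U] (q : ℕ),
    Subsingleton (EtCoh.H U ((EtCoh.pull t).obj G) (q + 1))

theorem EtAcyclic.aff {X : Scheme.{u}} {G : EtCoh.Ab X} (h : EtAcyclic G) : EtAcyclicAff G :=
  fun {_} t _ _ q => h t q

theorem subsingleton_H_of_iso {X : Scheme.{u}} {F G : EtCoh.Ab X} (e : F ≅ G) (q : ℕ)
    (h : Subsingleton (EtCoh.H X G q)) : Subsingleton (EtCoh.H X F q) :=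
  haveI : Subsingleton ((EtCoh.HF X q).obj G) := h
  (ConcreteCategory.bijective_of_isIso ((EtCoh.HF X q).map e.hom)).1.subsingleton

variable {X : Scheme.{u}} (B K : Type u) [CommRing B] [CommRing K] [Algebra B K]
  (t : Spec (CommRingCat.of B) ⟶ X) [Etale t]

/-- The stages of the henselization along `B → K`. -/
def D : (Obj B K)ᵒᵖ ⥤ Scheme.{u} := Obj.diagram.op ⋙ Scheme.Spec

/-- The cone on the henselization. -/
def cone : Cone (D B K) where
  pt := Spec (CommRingCat.of (Col B K))
  π :=
    { app := fun i => Spec.map (CommRingCat.ofHom (ι i.unop).toRingHom)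
      naturality := fun i k g => (Category.id_comp _).trans (by
        show Spec.map (CommRingCat.ofHom (ι k.unop).toRingHom) =
          Spec.map (CommRingCat.ofHom (ι i.unop).toRingHom) ≫ Spec.map (CommRingCat.ofHom g.unop.1.toRingHom)
        rw [← Spec.map_comp, ← CommRingCat.ofHom_comp]
        exact congrArg (fun q => Spec.map (CommRingCat.ofHom q)) (RingHom.ext fun x => (ι_map g.unop x).symm)) }

/-- The henselization is the limit of the stages. -/
def isLimitCone : IsLimit (cone B K) := by
  let t : Cocone (Obj.diagram (A := B) (K := K)) :=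
    { pt := CommRingCat.of (Col B K)
      ι := { app := fun i => CommRingCat.ofHom (ι i).toRingHom
             naturality := fun i k g => (CommRingCat.hom_ext (RingHom.ext fun x => ι_map g x)).trans
               (Category.comp_id _).symm } }
  have ht : IsColimit t := IsColimit.ofIsoColimit (colimit.isColimit _)
    (Cocone.ext (Iso.refl _) fun i => rfl)
  exact isLimitOfPreserves Scheme.Spec ht.op

/-- The structure map of a stage. -/
abbrev tt (i : (Obj B K)ᵒᵖ) : (D B K).obj i ⟶ X := toBase B i.unop.R ≫ t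

instance etale_tt (i : (Obj B K)ᵒᵖ) : Etale (tt B K t i) := by
  show Etale (toBase B i.unop.R ≫ t)
  haveI := StalkRpush.etale_toBase B i.unop.R
  infer_instance

theorem D_w {i k : (Obj B K)ᵒᵖ} (g : k ⟶ i) : (D B K).map g ≫ tt B K t i = tt B K t k := by
  show Spec.map (CommRingCat.ofHom g.unop.1.toRingHom) ≫ toBase B i.unop.R ≫ t = toBase B k.unop.R ≫ t
  rw [← Category.assoc]
  exact congrArg (· ≫ t) (map_toBase B g.unop.1)

theorem cone_w (i : (Obj B K)ᵒᵖ) : (cone B K).π.app i ≫ tt B K t i = toBase B (Col B K) ≫ t := by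
  show Spec.map (CommRingCat.ofHom (ι i.unop).toRingHom) ≫ toBase B i.unop.R ≫ t = _
  rw [← Category.assoc]
  exact congrArg (· ≫ t) (map_toBase B (ι i.unop))

instance isAffineHom_D (i k : (Obj B K)ᵒᵖ) (g : i ⟶ k) : IsAffineHom ((D B K).map g) :=
  inferInstanceAs (IsAffineHom (Spec.map _))

instance compactSpace_D (i : (Obj B K)ᵒᵖ) : CompactSpace ((D B K).obj i) :=
  inferInstanceAs (CompactSpace (Spec (CommRingCat.of i.unop.R)))

instance quasiSeparatedSpace_D (i : (Obj B K)ᵒᵖ) : QuasiSeparatedSpace ((D B K).obj i) :=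
  inferInstanceAs (QuasiSeparatedSpace (Spec (CommRingCat.of i.unop.R)))

variable (G : EtCoh.Ab X)

/-- The system of inverse images. -/
def psys : LimCoh.PreSys (D B K) where
  F i := (EtCoh.pull (tt B K t i)).obj G
  ψ {i k} g := LimCoh.stageψ G ((D B K).map g) (tt B K t i) (D_w B K t g)
  ψ_comp {a b d} h g :=
    LimCoh.stageψ_comp G _ _ (LimCoh.map_w (D B K) h g) _ _ _ (D_w B K t g) (D_w B K t h) (D_w B K t (h ≫ g))

/-- The identification on the henselization. -/
def θ (i : (Obj B K)ᵒᵖ) :
    (EtCoh.pull (LimCoh.prj (cone B K) i)).obj ((psys B K t G).F i) ≅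
      (EtCoh.pull (toBase B (Col B K) ≫ t)).obj G :=
  ((EtCore.pullComp ((cone B K).π.app i) (tt B K t i)).symm ≪≫ EtCore.pullCongr (cone_w B K t i)).app G

theorem θ_trans {i k : (Obj B K)ᵒᵖ} (g : k ⟶ i) :
    (θ B K t G i).hom = (psys B K t G).trans (cone B K) g ≫ (θ B K t G k).hom := by
  refine ((EtCoh.pullPushAdj (LimCoh.prj (cone B K) i)).homEquiv _ _).injective ?_
  refine Eq.trans ?_ (LimCoh.homEquiv_trans_comp (psys B K t G) (cone B K) g (θ B K t G k).hom).symm
  exact LimCoh.stageψ_comp G _ _ (LimCoh.prj_w (cone B K) g) _ _ (toBase B (Col B K) ≫ t) (D_w B K t g)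
    (cone_w B K t k) (cone_w B K t i)

variable {G}

/-- Acyclicity passes to the henselization. -/
theorem subsingleton_H_col (hG : EtAcyclicAff G) (q : ℕ) :
    Subsingleton (EtCoh.H (Spec (CommRingCat.of (Col B K)))
      ((EtCoh.pull (toBase B (Col B K) ≫ t)).obj G) (q + 1)) := by
  haveI : ∀ i, PreservesFiniteLimits (EtCoh.pull (LimCoh.prj (cone B K) i)) := fun i =>
    EtSite.preservesFiniteLimits_pull _
  haveI : ∀ {i k : (Obj B K)ᵒᵖ} (g : k ⟶ i), PreservesFiniteLimits (EtCoh.pull ((D B K).map g)) := fun g =>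
    EtSite.preservesFiniteLimits_pull _
  refine subsingleton_of_forall_eq 0 fun ξ => ?_
  obtain ⟨i, a, rfl⟩ := ((psys B K t G).commutes_const (cone B K) (isLimitCone B K) (θ B K t G)
    (fun {i k} g => θ_trans B K t G g) (q + 1)).1 ξ
  haveI : IsAffine ((D B K).obj i) := inferInstanceAs (IsAffine (Spec (CommRingCat.of i.unop.R)))
  haveI : Subsingleton (EtCoh.H ((D B K).obj i) ((psys B K t G).F i) (q + 1)) := hG (tt B K t i) q
  exact (congrArg _ (Subsingleton.elim a 0)).trans (map_zero _)

/-- Acyclicity passes to closed subschemes of affine etale schemes. -/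
theorem subsingleton_H_spec (hs : Function.Surjective (algebraMap B K)) (hT : EtCoh.IsTorsion G)
    (hG : EtAcyclicAff G) (q : ℕ) :
    Subsingleton (EtCoh.H (Spec (CommRingCat.of K)) ((EtCoh.pull (toBase B K ≫ t)).obj G) (q + 1)) := by
  have hε : Function.Surjective (ε B K) := fun k => by
    obtain ⟨b, rfl⟩ := hs k
    exact ⟨algebraMap B _ b, (ε B K).commutes b⟩
  haveI := henselianRing_ker_ε hε
  let c : Spec (CommRingCat.of K) ⟶ Spec (CommRingCat.of (Col B K)) :=
    Spec.map (CommRingCat.ofHom (ε B K).toRingHom)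
  haveI : IsClosedImmersion c := IsClosedImmersion.spec_of_surjective _ hε
  haveI := EtSite.preservesFiniteLimits_pull c
  have hrange : Set.range c =
      (𝟙 (Spec (CommRingCat.of (Col B K)))) ⁻¹' PrimeSpectrum.zeroLocus ((RingHom.ker (ε B K) : Ideal (Col B K)) : Set (Col B K)) :=
    range_comap_of_surjective _ _ hε
  have h0 : ∀ F : EtCoh.Ab (Spec (CommRingCat.of (Col B K))), Function.Bijective (EtCore.Hpull c F 0) := by
    intro F
    have hT := EtCore.topIsTerminal (Spec (CommRingCat.of (Col B K)))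
    let φ := (EtCoh.pullPushAdj c).unit.app F
    have h : (Sheaf.H.equiv₀ _ hT ∘ Sheaf.H.map φ 0 : Sheaf.H F 0 → _) =
        φ.hom.app (op (EtCoh.top _)) ∘ Sheaf.H.equiv₀ F hT :=
      funext fun e => Sheaf.H.equiv₀_naturality hT φ e |>.symm
    have hu : Function.Bijective (Sheaf.H.map φ 0) :=
      (Function.Bijective.of_comp_iff' (Sheaf.H.equiv₀ _ hT).bijective _).1
        (h ▸ (H0Proper.bijective_of_range _ (𝟙 _) c hrange F).comp (Sheaf.H.equiv₀ F hT).bijective)
    rw [show (EtCore.Hpull c F 0 : _ → _) = EtLim.HofPush c ((EtCoh.pull c).obj F) 0 ∘ Sheaf.H.map φ 0 from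
      funext fun e => EtSite.Hpull_apply c F 0 e]
    exact (EtSite.bijective_HofPush c _ (fun p hp =>
      EtSite.isZero_Rpush_of_propB c (EtSite.propB_of_isIntegralHom c) _ p hp) 0).comp hu
  let Gh := (EtCoh.pull (toBase B (Col B K) ≫ t)).obj G
  have hGh : EtCoh.IsTorsion Gh := L28.CurveCd.isTorsion_pull _ hT
  haveI : Subsingleton (EtCoh.H (Spec (CommRingCat.of (Col B K))) Gh (q + 1)) := subsingleton_H_col B K t hG q
  haveI h1 : Subsingleton (EtCoh.H (Spec (CommRingCat.of K)) ((EtCoh.pull c).obj Gh) (q + 1)) :=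
    (AffineEfface.bijective_Hpull c h0 (q + 1) Gh hGh).2.subsingleton
  have w : c ≫ toBase B (Col B K) ≫ t = toBase B K ≫ t := by
    rw [← Category.assoc]
    exact congrArg (· ≫ t) (map_toBase B (ε B K))
  exact subsingleton_H_of_iso (((EtCore.pullCongr w).symm ≪≫ EtCore.pullComp c _).app G) _ h1

end

end Groth.L27.ModEfface
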