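import Groth.Agent.L27.ModEfface.Restrict
import Groth.Agent.L27.ModEfface.Stages
import Groth.Agent.L27.Colim.Etale

/-! # Injective sheaves of modules over torsion rings are acyclic on etale qcqs schemes -/

universe u

open CategoryTheory CategoryTheory.Limits AlgebraicGeometry Opposite

set_option autoImplicit false
set_option linter.style.haveILetI false
set_option linter.unusedSectionVars false
set_option backward.isDefEq.respectTransparency.types false

namespace Groth.L27.ModEfface

open Groth.L27.Colim

noncomputable section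

variable {X : Scheme.{u}} {A : Sheaf X.smallEtaleTopology RingCat.{u + 1}}

/-- Modules over a torsion sheaf of rings are torsion. -/
theorem isTorsion_toSheaf
    (hA : ∀ (U : X.Etale) (s : A.obj.obj (op U)) (x : U.left), ∃ (V : X.Etale) (g : V ⟶ U),
      (∃ v : V.left, g.left.base v = x) ∧ IsOfFinAddOrder (A.obj.map g.op s))
    (M : SheafOfModules.{u + 1} A) : EtCoh.IsTorsion ((SheafOfModules.toSheaf A).obj M) := by
  intro U s x
  obtain ⟨V, g, hv, hfin⟩ := hA U 1 x
  obtain ⟨n, hn, hn1⟩ := hfin.exists_nsmul_eq_zero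
  rw [map_one] at hn1
  refine ⟨V, g, hv, isOfFinAddOrder_iff_nsmul_eq_zero.2 ⟨n, hn, ?_⟩⟩
  generalize (((SheafOfModules.toSheaf A).obj M).obj.map g.op) s = y
  change ↥(M.val.obj (op V)) at y
  show n • y = 0
  rw [← Nat.cast_smul_eq_nsmul ↥(A.obj.obj (op V)) n y, ← nsmul_one, hn1]
  exact zero_smul _ y

/-- Injective sheaves of modules are acyclic on etale qcqs schemes. -/
theorem etAcyclic_toSheaf (I : SheafOfModules.{u + 1} A) [Injective I] :
    EtAcyclic ((SheafOfModules.toSheaf A).obj I) := by
  intro U t _ hU hU' q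
  haveI : EtShriek.JCont t := ExtZero.jCont _
  refine subsingleton_H_of_iso ((ExtZero.pullRestr t).app _) _ ?_
  exact Colim.subsingleton_H_of_acyc good (EtCore.topIsTerminal U) (hT₀ := ⟨hU, hU'⟩) q _
    (fun K L p _ _ _ => cechExact_pull t I p)

end

end Groth.L27.ModEfface
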