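import Groth.Agent.L27.ModEfface.Affine
import Groth.Agent.L28.AcyComp.Iso
import Groth.Agent.L27.MV.Main
import Groth.Agent.L27.GabberH1.MV
import Groth.Agent.L27.GabberH1.Main

/-! # Mayer-Vietoris induction on the number of affines -/

universe u

open CategoryTheory CategoryTheory.Limits AlgebraicGeometry Opposite CategoryTheory.Abelian

set_option autoImplicit false
set_option linter.style.haveILetI false
set_option linter.unusedSectionVars false
set_option backward.isDefEq.respectTransparency.types false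

namespace Groth.L27.ModEfface

noncomputable section

/-- A union of `m + 1` opens of an acyclic class closed under intersections has dimension at most `m`. -/
theorem subsingleton_ext_iSup {Z : Scheme.{u}} (F : EtCoh.Ab Z) (good : Z.Opens → Prop)
    (hinf : ∀ O O', good O → good O' → good (O ⊓ O'))
    (hgood : ∀ O, good O → ∀ q : ℕ, Subsingleton (Ext (Colim.freeSh (MV.oE O)) F (q + 1))) :
    ∀ (m : ℕ) (O : Fin (m + 1) → Z.Opens), (∀ k, good (O k)) → ∀ W : Z.Opens, W = ⨆ k, O k →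
      ∀ q : ℕ, m < q → Subsingleton (Ext (Colim.freeSh (MV.oE W)) F q) := by
  intro m
  induction m with
  | zero =>
    intro O hO W hW q hq
    obtain ⟨q, rfl⟩ := Nat.exists_eq_succ_of_ne_zero (by omega : q ≠ 0)
    obtain rfl : W = O 0 := hW.trans (le_antisymm (iSup_le fun k => by rw [Fin.fin_one_eq_zero k]) (le_iSup O 0))
    exact hgood _ (hO 0) q
  | succ m ih =>
    intro O hO W hW q hq
    obtain ⟨q, rfl⟩ := Nat.exists_eq_succ_of_ne_zero (by omega : q ≠ 0)
    let U : Z.Opens := ⨆ k : Fin (m + 1), O k.castSucc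
    let V : Z.Opens := O (Fin.last (m + 1))
    have hU : U ≤ W := iSup_le fun k => hW ▸ le_iSup O _
    have hV : V ≤ W := hW ▸ le_iSup O _
    have hUV : W ≤ U ⊔ V := by
      rw [hW]
      refine iSup_le fun k => ?_
      induction k using Fin.lastCases with
      | last => exact le_sup_right
      | cast k => exact le_sup_of_le_left (le_iSup (fun k : Fin (m + 1) => O k.castSucc) k)
    haveI h1 := ih (fun k => O k.castSucc ⊓ V) (fun k => hinf _ _ (hO _) (hO _)) (U ⊓ V)
      (iSup_inf_eq _ _) q (by omega)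
    haveI h2 := ih (fun k => O k.castSucc) (fun k => hO _) U rfl (q + 1) (by omega)
    haveI h3 := hgood V (hO _) q
    have hS := GabberH1.shortExact_mvE hU hV hUV
    refine subsingleton_of_forall_eq 0 fun x => ?_
    have hx : (Ext.mk₀ (GabberH1.mvE hU hV).g).comp x (zero_add (q + 1)) = 0 := by
      have h0 : ∀ y : Ext (Colim.freeSh (MV.oE U) ⊞ Colim.freeSh (MV.oE V)) F (q + 1), y = 0 := fun y => by
        refine (MV.biprod_ext F (q + 1) y).trans ?_
        rw [Subsingleton.elim ((Ext.mk₀ biprod.inl).comp y (zero_add (q + 1))) 0,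
          Subsingleton.elim ((Ext.mk₀ biprod.inr).comp y (zero_add (q + 1))) 0,
          Ext.comp_zero, Ext.comp_zero, add_zero]
      exact h0 _
    obtain ⟨z, hz⟩ := Ext.contravariant_sequence_exact₃ hS F x hx (add_comm 1 q)
    rw [← hz, Subsingleton.elim (α := Ext (Colim.freeSh (MV.oE (U ⊓ V))) F q) z 0]
    exact Ext.comp_zero ..

variable {X Z : Scheme.{u}} (i : Z ⟶ X) [IsClosedImmersion i] {G : EtCoh.Ab X}

/-- Vanishing on the preimage of an affine open. -/
theorem subsingleton_H_preimage (hT : EtCoh.IsTorsion G) (hG : EtAcyclic G) {W : X.Opens} (hW : IsAffineOpen W)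
    (q : ℕ) : Subsingleton (EtCoh.H ((i ⁻¹ᵁ W : Z.Opens) : Scheme.{u})
      ((EtCoh.pull (i ⁻¹ᵁ W).ι).obj ((EtCoh.pull i).obj G)) (q + 1)) := by
  let R := Γ(X, W)
  let t : Spec R ⟶ X := hW.fromSpec
  haveI : IsOpenImmersion t := inferInstanceAs (IsOpenImmersion hW.fromSpec)
  let i' : ((i ⁻¹ᵁ W : Z.Opens) : Scheme.{u}) ⟶ Spec R := (i ∣_ W) ≫ hW.isoSpec.hom
  haveI : IsClosedImmersion (i ∣_ W) := IsZariskiLocalAtTarget.restrict (P := @IsClosedImmersion) inferInstance W
  haveI : IsClosedImmersion i' := inferInstanceAs (IsClosedImmersion ((i ∣_ W) ≫ hW.isoSpec.hom))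
  obtain ⟨J, e, he⟩ := IsClosedImmersion.Spec_iff.1 ‹IsClosedImmersion i'›
  have w : e.hom ≫ StalkRpush.toBase R (R ⧸ J) ≫ t = (i ⁻¹ᵁ W).ι ≫ i := by
    show e.hom ≫ Spec.map (CommRingCat.ofHom (Ideal.Quotient.mk J)) ≫ t = _
    rw [← Category.assoc, ← he]
    show ((i ∣_ W) ≫ hW.isoSpec.hom) ≫ hW.fromSpec = _
    rw [Category.assoc, IsAffineOpen.fromSpec, Iso.hom_inv_id_assoc, morphismRestrict_ι]
  haveI h := subsingleton_H_spec (R : Type u) (R ⧸ J) t Ideal.Quotient.mk_surjective hT hG.aff q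
  haveI : PreservesFiniteLimits (EtCoh.pull e.hom) := EtSite.preservesFiniteLimits_pull _
  haveI h' : Subsingleton (EtCoh.H ((i ⁻¹ᵁ W : Z.Opens) : Scheme.{u})
      ((EtCoh.pull e.hom).obj ((EtCoh.pull (StalkRpush.toBase R (R ⧸ J) ≫ t)).obj G)) (q + 1)) :=
    (L28.AcyComp.bijective_Hpull e.hom _ (q + 1)).2.subsingleton
  exact subsingleton_H_of_iso (((EtCore.pullComp (i ⁻¹ᵁ W).ι i).symm ≪≫ (EtCore.pullCongr w).symm ≪≫
    EtCore.pullComp e.hom _).app G) _ h'

/-- Vanishing above the number of affines. -/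
theorem subsingleton_H_of_affines (hT : EtCoh.IsTorsion G) (hG : EtAcyclic G)
    (hΔ : ∀ U V : X.Opens, IsAffineOpen U → IsAffineOpen V → IsAffineOpen (U ⊓ V))
    {n : ℕ} (W : Fin (n + 1) → X.Opens) (hW : ∀ k, IsAffineOpen (W k)) (hcov : ⨆ k, W k = ⊤)
    (q : ℕ) (hq : n < q) : Subsingleton (EtCoh.H Z ((EtCoh.pull i).obj G) q) := by
  let F := (EtCoh.pull i).obj G
  have hgood : ∀ O : Z.Opens, (∃ V : X.Opens, IsAffineOpen V ∧ i ⁻¹ᵁ V = O) →
      ∀ q : ℕ, Subsingleton (Ext (Colim.freeSh (MV.oE O)) F (q + 1)) := by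
    rintro - ⟨V, hV, rfl⟩ q
    haveI := subsingleton_H_preimage i hT hG hV q
    haveI : PreservesFiniteLimits (EtCoh.pull (i ⁻¹ᵁ V).ι) := EtSite.preservesFiniteLimits_pull _
    exact (MV.ΦEquiv (i ⁻¹ᵁ V) F (q + 1)).injective.subsingleton
  have htop : (⊤ : Z.Opens) = ⨆ k, i ⁻¹ᵁ W k := by
    rw [← Scheme.Hom.preimage_iSup, hcov, Scheme.Hom.preimage_top]
  haveI := subsingleton_ext_iSup F (fun O => ∃ V : X.Opens, IsAffineOpen V ∧ i ⁻¹ᵁ V = O)
    (by rintro _ _ ⟨V, hV, rfl⟩ ⟨V', hV', rfl⟩; exact ⟨V ⊓ V', hΔ V V' hV hV', rfl⟩)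
    hgood n (fun k => i ⁻¹ᵁ W k) (fun k => ⟨W k, hW k, rfl⟩) ⊤ htop q hq
  haveI := GabberH1.isIso_toConst_top Z
  have hinj : Function.Injective (fun x : Ext (EtCoh.const Z ℤ) F q =>
      (Ext.mk₀ (MV.toConst (⊤ : Z.Opens))).comp x (zero_add q)) := fun a b hab => by
    have := congrArg (fun y => (Ext.mk₀ (inv (MV.toConst (⊤ : Z.Opens)))).comp y (zero_add q)) hab
    simpa only [Ext.mk₀_comp_mk₀_assoc, IsIso.inv_hom_id, Ext.mk₀_id_comp] using this
  exact hinj.subsingleton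

end

end Groth.L27.ModEfface
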