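import Groth.Agent.L27.Colim.InjExact
import Mathlib.Algebra.Category.ModuleCat.Presheaf.Free
import Mathlib.Algebra.Category.ModuleCat.Presheaf.Abelian
import Mathlib.Algebra.Category.ModuleCat.Adjunctions
import Mathlib.CategoryTheory.Abelian.Injective.Basic

/-! # The Cech complex of an injective presheaf of modules is exact -/

universe u

open CategoryTheory CategoryTheory.Limits Opposite

set_option autoImplicit false
set_option linter.style.haveILetI false
set_option backward.isDefEq.respectTransparency.types false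

namespace Groth.L27.ModEfface

open Groth.L27.Colim

noncomputable section

variable {C : Type (u + 1)} [Category.{u} C] (R : Cᵒᵖ ⥤ RingCat.{u + 1}) {K L : C} (p : L ⟶ K)

/-- The free presheaf of modules on tuples. -/
abbrev MFr (n : ℕ) : PresheafOfModules.{u + 1} R := (PresheafOfModules.free R).obj (Colim.T p n)

/-- The differential. -/
def MFrd (n : ℕ) : MFr R p (n + 1) ⟶ MFr R p n :=
  ∑ j : Fin (n + 2), (-1 : ℤ) ^ (j : ℕ) • (PresheafOfModules.free R).map (Colim.Tface p j)

variable {R}

theorem free_map_freeMk {A B : Type (u + 1)} {S : RingCat.{u + 1}} (f : A ⟶ B) (a : A) :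
    (ModuleCat.free S).map f (ModuleCat.freeMk a) = ModuleCat.freeMk (f a) := by
  exact Finsupp.mapDomain_single

theorem MFrd_app_freeMk {n : ℕ} (V : Cᵒᵖ) (s : (Colim.T p (n + 1)).obj V) :
    (MFrd R p n).app V (ModuleCat.freeMk s) =
      ∑ j : Fin (n + 2), (-1 : ℤ) ^ (j : ℕ) • (show ↥((MFr R p n).obj V) from ModuleCat.freeMk ((Colim.Tface p j).app V s)) := by
  let ev : (MFr R p (n + 1) ⟶ MFr R p n) →+ ↥((MFr R p n).obj V) :=
    AddMonoidHom.mk' (fun g => g.app V (ModuleCat.freeMk s)) fun _ _ => rfl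
  refine (map_sum ev _ Finset.univ).trans (Finset.sum_congr rfl fun j _ => ?_)
  refine (map_zsmul ev _ _).trans (congrArg _ ?_)
  exact free_map_freeMk _ s

variable {p}

theorem exists_factor {n : ℕ} (P : PresheafOfModules.{u + 1} R) [Injective P]
    (φ : MFr R p (n + 1) ⟶ P) (hφ : MFrd R p (n + 1) ≫ φ = 0) : ∃ ψ, MFrd R p n ≫ ψ = φ := by
  have hker : kernel.ι (MFrd R p n) ≫ φ = 0 := by
    refine PresheafOfModules.hom_ext fun V => ModuleCat.hom_ext (LinearMap.ext fun z => ?_)
    have hx : (MFrd R p n).app V ((kernel.ι (MFrd R p n)).app V z) = 0 :=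
      congr($(congrArg (fun g : kernel (MFrd R p n) ⟶ MFr R p n => g.app V) (kernel.condition (MFrd R p n))) z)
    change φ.app V ((kernel.ι (MFrd R p n)).app V z) = 0
    generalize (kernel.ι (MFrd R p n)).app V z = x at hx ⊢
    let H : ∀ m, (MFr R p m).obj V →ₗ[R.obj V] (MFr R p (m + 1)).obj V :=
      fun m => ((ModuleCat.free (R.obj V)).map (TypeCat.ofHom (Colim.hh (p := p) (n := m) (V := V)))).hom
    let dd : ∀ m, (MFr R p (m + 1)).obj V →ₗ[R.obj V] (MFr R p m).obj V := fun m => ((MFrd R p m).app V).hom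
    have hH : ∀ m s, H m (ModuleCat.freeMk s) = ModuleCat.freeMk (Colim.hh s) := fun m s => free_map_freeMk _ s
    have key : (dd (n + 1)).comp (H (n + 1)) + (H n).comp (dd n) = LinearMap.id := by
      refine Finsupp.lhom_ext' fun s => LinearMap.ext_ring ?_
      show dd (n + 1) (H (n + 1) (ModuleCat.freeMk s)) + H n (dd n (ModuleCat.freeMk s)) = ModuleCat.freeMk s
      rw [hH, show dd (n + 1) (ModuleCat.freeMk (Colim.hh s)) = _ from MFrd_app_freeMk p V (Colim.hh s),
        show dd n (ModuleCat.freeMk s) = _ from MFrd_app_freeMk p V s, map_sum, Fin.sum_univ_succ]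
      simp only [map_zsmul, hH, Colim.Tface_hh_zero, Colim.Tface_hh_succ, Fin.val_succ,
        Fin.val_zero, pow_zero, one_smul, pow_succ, mul_neg, mul_one, neg_smul, Finset.sum_neg_distrib]
      abel
    have hx' : dd (n + 1) (H (n + 1) x) + H n (dd n x) = x := LinearMap.congr_fun key x
    rw [show dd n x = 0 from hx, map_zero, add_zero] at hx'
    rw [← hx']
    exact congr($(congrArg (fun g : MFr R p (n + 1 + 1) ⟶ P => g.app V) hφ) (H (n + 1) x))
  have hex : (ShortComplex.mk _ _ (kernel.condition (MFrd R p n))).Exact :=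
    ShortComplex.exact_of_f_is_kernel _ (kernelIsKernel _)
  exact ⟨hex.descToInjective φ hker, hex.comp_descToInjective φ hker⟩

variable {P : PresheafOfModules.{u + 1} R}

theorem MFrd_comp (n : ℕ) (φ : MFr R p n ⟶ P) (V : Cᵒᵖ) (s : (Colim.T p (n + 1)).obj V) :
    (MFrd R p n ≫ φ).app V (ModuleCat.freeMk s) =
      ∑ j : Fin (n + 2), (-1 : ℤ) ^ (j : ℕ) • φ.app V (ModuleCat.freeMk ((Colim.Tface p j).app V s)) :=
  (congrArg (φ.app V) (MFrd_app_freeMk p V s)).trans ((map_sum (φ.app V).hom _ _).trans
    (Finset.sum_congr rfl fun j _ => map_zsmul (φ.app V).hom _ _))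

/-- A cochain as a map out of the free presheaf. -/
def toHom {n : ℕ} (x : Fam p P.presheaf n) (hx : IsNat x) : MFr R p n ⟶ P :=
  PresheafOfModules.freeObjDesc
    { app := fun V => TypeCat.ofHom fun s => x V.unop s.down
      naturality := fun V W f => ConcreteCategory.hom_ext _ _ fun s => hx f.unop s.down }

theorem toHom_freeMk {n : ℕ} (x : Fam p P.presheaf n) (hx : IsNat x) {V : Cᵒᵖ} (s : (Colim.T p n).obj V) :
    (toHom x hx).app V (ModuleCat.freeMk s) = x V.unop s.down := by
  exact ModuleCat.freeDesc_apply _ _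

/-- Injective presheaves of modules have exact Cech complexes. -/
theorem cechExact_of_injective [Injective P] : CechExact p P.presheaf := fun n x hx hdx => by
  obtain ⟨ψ, hψ⟩ := exists_factor P (toHom x hx) (by
    refine PresheafOfModules.hom_ext fun V => ModuleCat.hom_ext (Finsupp.lhom_ext' fun s => LinearMap.ext_ring ?_)
    show (MFrd R p (n + 1) ≫ toHom x hx).app V (ModuleCat.freeMk s) = 0
    refine (MFrd_comp (n + 1) (toHom x hx) V s).trans ?_
    simp only [toHom_freeMk]
    exact congrFun (congrFun hdx V.unop) s.down)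
  refine ⟨fun V t => ψ.app (op V) (ModuleCat.freeMk (show (Colim.T p n).obj (op V) from ULift.up t)),
    fun {V W} g t => ?_, ?_⟩
  · refine Eq.trans ?_ (PresheafOfModules.naturality_apply ψ g.op (ModuleCat.freeMk (show (Colim.T p n).obj (op V) from ULift.up t))).symm.symm
    refine congrArg (ψ.app (op W)) ?_
    symm
    exact ModuleCat.freeDesc_apply _ _
  · funext V t
    have h := (MFrd_comp n ψ (op V) ⟨t⟩).symm.trans
      ((congr($(congrArg (fun g : MFr R p (n + 1) ⟶ P => g.app (op V)) hψ) (ModuleCat.freeMk (show (Colim.T p (n + 1)).obj (op V) from ULift.up t)))).trans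
        (toHom_freeMk x hx _))
    exact h

end

end Groth.L27.ModEfface
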