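import Groth.Agent.L27.ModEfface.ModInjExact
import Groth.Agent.L27.Colim.Acyclic
import Groth.Agent.L27.ExtZero.Restr
import Groth.Agent.L27.EtSite.Points
import Mathlib.Algebra.Category.ModuleCat.Presheaf.Sheafification
import Mathlib.Algebra.Category.ModuleCat.Sheaf

/-! # Restrictions of injective sheaves of modules to etale schemes have exact Cech complexes -/

universe u

open CategoryTheory CategoryTheory.Limits AlgebraicGeometry Opposite

set_option autoImplicit false
set_option linter.style.haveILetI false
set_option linter.unusedSectionVars false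
set_option backward.isDefEq.respectTransparency.types false

namespace Groth.L27.ModEfface

open Groth.L27.Colim

noncomputable section

variable {X : Scheme.{u}}

/-- Injective sheaves of modules have exact Cech complexes. -/
theorem cechExact_sheafMod {A : Sheaf X.smallEtaleTopology RingCat.{u + 1}} (I : SheafOfModules.{u + 1} A)
    [Injective I] {K L : X.Etale} (p : L ⟶ K) : CechExact p ((SheafOfModules.toSheaf A).obj I).obj := by
  haveI : PreservesFiniteLimits (PresheafOfModules.sheafification.{u + 1} (𝟙 A.obj)) := inferInstance
  haveI : Injective ((SheafOfModules.forget A ⋙ PresheafOfModules.restrictScalars (𝟙 A.obj)).obj I) :=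
    Injective.injective_of_adjoint (PresheafOfModules.sheafificationAdjunction.{u + 1} (R := A) (𝟙 A.obj)) I
  exact cechExact_of_injective (P := (SheafOfModules.forget A ⋙ PresheafOfModules.restrictScalars (𝟙 A.obj)).obj I)

variable {U : Scheme.{u}} (j : U ⟶ X) [Etale j] {K L : U.Etale} {p : L ⟶ K}

theorem tup_left {n : ℕ} {V' : X.Etale} (t : Tup ((EtShriek.compEtale j).map p) n V') (k : Fin (n + 1)) :
    (t.1 k).left ≫ L.hom = (t.1 0).left ≫ L.hom := by
  have h : (t.1 k).left ≫ p.left = (t.1 0).left ≫ p.left :=
    congrArg (fun m : V' ⟶ (EtShriek.compEtale j).obj K => m.left) (t.2 k 0)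
  rw [← MorphismProperty.Over.w p]
  exact (Category.assoc _ _ _).symm.trans ((congrArg (· ≫ K.hom) h).trans (Category.assoc _ _ _))

/-- The etale scheme over the open underlying a tuple. -/
def VU {n : ℕ} {V' : X.Etale} (t : Tup ((EtShriek.compEtale j).map p) n V') : U.Etale :=
  let a : V'.left ⟶ L.left := (t.1 0).left
  let b : L.left ⟶ U := L.hom
  haveI : Etale a := EtSite.etale_left (t.1 0)
  haveI : Etale b := L.prop
  Scheme.Etale.mk (a ≫ b)

/-- The lifted tuple. -/
def lift {n : ℕ} {V' : X.Etale} (t : Tup ((EtShriek.compEtale j).map p) n V') : Tup p n (VU j t) :=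
  ⟨fun k => MorphismProperty.Over.homMk (t.1 k).left (tup_left j t k), fun k l =>
    MorphismProperty.Over.Hom.ext (congrArg (fun m : V' ⟶ (EtShriek.compEtale j).obj K => m.left) (t.2 k l) :)⟩

/-- The identification with the original object. -/
def back {n : ℕ} {V' : X.Etale} (t : Tup ((EtShriek.compEtale j).map p) n V') :
    V' ⟶ (EtShriek.compEtale j).obj (VU j t) :=
  MorphismProperty.Over.homMk (𝟙 V'.left) (by
    show 𝟙 V'.left ≫ ((t.1 0).left ≫ L.hom) ≫ j = V'.hom
    rw [Category.id_comp, Category.assoc]
    exact MorphismProperty.Over.w (t.1 0))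

/-- Cech exactness restricts to etale schemes. -/
theorem cechExact_restr {P : (X.Etale)ᵒᵖ ⥤ AddCommGrpCat.{u + 1}}
    (h : CechExact ((EtShriek.compEtale j).map p) P) : CechExact p ((EtShriek.compEtale j).op ⋙ P) := by
  intro n x hx hdx
  let x' : Fam ((EtShriek.compEtale j).map p) P (n + 1) := fun V' t =>
    P.map (back j t).op (x (VU j t) (lift j t))
  have key : ∀ {m : ℕ} {V' W' : X.Etale} (g : W' ⟶ V') (t : Tup ((EtShriek.compEtale j).map p) (n + 1) V')
      (s : Tup ((EtShriek.compEtale j).map p) m W') (k : VU j s ⟶ VU j t) (_ : k.left = g.left),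
      P.map g.op (x' V' t) = P.map (back j s).op (x (VU j s) ((lift j t).res k)) := by
    intro m V' W' g t s k hk
    rw [hx k (lift j t)]
    show P.map g.op (P.map (back j t).op (x _ (lift j t))) =
      P.map (back j s).op (P.map ((EtShriek.compEtale j).map k).op (x _ (lift j t)))
    rw [← Functor.map_comp_apply, ← Functor.map_comp_apply, ← op_comp, ← op_comp]
    refine congrArg (fun l => P.map (Quiver.Hom.op l) (x _ (lift j t))) (MorphismProperty.Over.Hom.ext ?_)
    exact (Category.comp_id g.left).trans (hk.symm.trans (Category.id_comp k.left).symm)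
  have hx' : IsNat x' := fun {V' W'} g t => by
    let k : VU j (t.res g) ⟶ VU j t := MorphismProperty.Over.homMk g.left (Category.assoc _ _ _).symm
    rw [key g t (t.res g) k rfl]
    rfl
  have hd : Colim.d x' = 0 := by
    funext V' t
    have hf : ∀ i : Fin (n + 1 + 2), x' V' (t.face i) = P.map (back j t).op (x (VU j t) ((lift j t).face i)) := by
      intro i
      let k : VU j t ⟶ VU j (t.face i) := MorphismProperty.Over.homMk (𝟙 V'.left)
        ((Category.id_comp _).trans (tup_left j t (i.succAbove 0)))
      refine ((ConcreteCategory.congr_hom (P.map_id (op V')) _).symm.trans (key (𝟙 V') (t.face i) t k rfl)).trans ?_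
      refine congrArg (fun s => P.map (back j t).op (x (VU j t) s)) (Subtype.ext (funext fun l => ?_))
      exact MorphismProperty.Over.Hom.ext (Category.id_comp _)
    refine (Finset.sum_congr rfl fun i _ => congrArg _ (hf i)).trans ?_
    rw [Finset.sum_congr rfl fun i _ => (map_zsmul (P.map (back j t).op).hom _ _).symm, ← map_sum]
    exact (congrArg (P.map (back j t).op) (congrFun (congrFun hdx (VU j t)) (lift j t))).trans (map_zero _)
  obtain ⟨y', hy', hdy'⟩ := h n x' hx' hd
  let img : ∀ {m : ℕ} {V : U.Etale}, Tup p m V → Tup ((EtShriek.compEtale j).map p) m ((EtShriek.compEtale j).obj V) :=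
    fun {m V} t => ⟨fun k => (EtShriek.compEtale j).map (t.1 k), fun k l => by
      rw [← Functor.map_comp, ← Functor.map_comp, t.2 k l]⟩
  refine ⟨fun V t => y' _ (img t), fun {V W} g t => ?_, ?_⟩
  · refine Eq.trans (congrArg (y' _) ?_) (hy' ((EtShriek.compEtale j).map g) (img t))
    exact Subtype.ext (funext fun k => (EtShriek.compEtale j).map_comp g (t.1 k))
  · funext V t
    have e : x' ((EtShriek.compEtale j).obj V) (img t) = x V t := by
      let k : VU j (img t) ⟶ V := MorphismProperty.Over.homMk (𝟙 V.left)
        ((Category.id_comp _).trans (MorphismProperty.Over.w (t.1 0)).symm)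
      have hk : lift j (img t) = t.res k :=
        Subtype.ext (funext fun l => MorphismProperty.Over.Hom.ext (Category.id_comp _).symm)
      refine (congrArg (P.map (back j (img t)).op) ((congrArg (x (VU j (img t))) hk).trans (hx k t))).trans ?_
      show P.map _ (P.map ((EtShriek.compEtale j).map k).op (x V t)) = x V t
      rw [← Functor.map_comp_apply, ← op_comp]
      refine (congrArg (fun l => P.map (Quiver.Hom.op l) (x V t)) (MorphismProperty.Over.Hom.ext ?_ :
        back j (img t) ≫ (EtShriek.compEtale j).map k = 𝟙 _)).trans (ConcreteCategory.congr_hom (P.map_id _) _)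
      exact Category.comp_id _
    exact (congrFun (congrFun hdy' _) (img t)).trans e

/-- Pullbacks of injective sheaves of modules to etale schemes have exact Cech complexes. -/
theorem cechExact_pull [EtShriek.JCont j] {A : Sheaf X.smallEtaleTopology RingCat.{u + 1}}
    (I : SheafOfModules.{u + 1} A) [Injective I] {K L : U.Etale} (p : L ⟶ K) :
    CechExact p ((EtShriek.restrAlong j).obj ((SheafOfModules.toSheaf A).obj I)).obj :=
  cechExact_restr j (cechExact_sheafMod I ((EtShriek.compEtale j).map p))

end

end Groth.L27.ModEfface
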